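import Cfsg.Prelude.Def_Sporadic_a

/-!
Orbit certificates for stabilisers in `M24`, computed on 24-bit masks.
Convention: the extra point `none` is bit 23, the residue `k` is bit `k`.
-/

set_option autoImplicit false
open scoped Pointwise
open Cfsg

namespace Cfsg.Agent.Golay.Orbit

/-- bit number of a point -/
def idx : GolayPt → ℕ
  | none => 23
  | some x => x.val

/-- the point with a given bit number -/
def pt (i : ℕ) : GolayPt := if i = 23 then none else some (i : ZMod 23)

theorem idx_lt (p : GolayPt) : idx p < 24 := by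
  cases p with
  | none => decide
  | some x => exact lt_trans (ZMod.val_lt x) (by decide)

theorem pt_idx (p : GolayPt) : pt (idx p) = p := by
  revert p; decide

theorem idx_pt (i : ℕ) (h : i < 24) : idx (pt i) = i := by
  revert i; decide

theorem idx_injective : Function.Injective idx := fun p q h => by
  rw [← pt_idx p, ← pt_idx q, h]

/-- the set of points of a mask -/
def fin (m : ℕ) : Finset GolayPt := Finset.univ.filter (fun p => m.testBit (idx p) = true)

theorem mem_fin (m : ℕ) (p : GolayPt) : p ∈ fin m ↔ m.testBit (idx p) = true := by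
  simp [fin]

theorem fin_injOn (m m' : ℕ) (hm : m < 2 ^ 24) (hm' : m' < 2 ^ 24) (h : fin m = fin m') :
    m = m' := by
  apply Nat.eq_of_testBit_eq
  intro i
  by_cases hi : i < 24
  · have h1 := Finset.ext_iff.mp h (pt i)
    rw [mem_fin, mem_fin, idx_pt i hi] at h1
    exact Bool.eq_iff_iff.mpr h1
  · rw [Nat.testBit_lt_two_pow, Nat.testBit_lt_two_pow]
    · exact lt_of_lt_of_le hm' (Nat.pow_le_pow_right (by decide) (by omega))
    · exact lt_of_lt_of_le hm (Nat.pow_le_pow_right (by decide) (by omega))

theorem fin_land (m m' : ℕ) : fin (m &&& m') = fin m ∩ fin m' := by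
  ext p; simp [mem_fin]

theorem fin_two_pow (p : GolayPt) : fin (2 ^ idx p) = {p} := by
  ext q
  rw [mem_fin, Nat.testBit_two_pow, Finset.mem_singleton]
  simp only [decide_eq_true_eq]
  exact ⟨fun h => (idx_injective h).symm, fun h => by rw [h]⟩

/-! ### words -/

/-- the binary word of a mask -/
def word (m : ℕ) : GolayPt → ZMod 2 := fun p => if m.testBit (idx p) = true then 1 else 0

theorem mem_support (w : GolayPt → ZMod 2) (p : GolayPt) : p ∈ support₂ w ↔ w p ≠ 0 := by
  refine Iff.trans (Finset.mem_filter) ?_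
  exact ⟨fun h => h.2, fun h => ⟨Finset.mem_univ _, h⟩⟩

theorem support_word (m : ℕ) : support₂ (word m) = fin m := by
  ext p
  rw [mem_fin, mem_support]
  show (if m.testBit (idx p) = true then (1 : ZMod 2) else 0) ≠ 0 ↔ _
  cases m.testBit (idx p) <;> decide

theorem word_xor (m m' : ℕ) : word (m ^^^ m') = word m + word m' := by
  funext p
  simp only [word, Pi.add_apply, Nat.testBit_xor]
  cases m.testBit (idx p) <;> cases m'.testBit (idx p) <;> decide

theorem word_zero : word 0 = 0 := by
  funext p; simp [word]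

/-- encoder: xor of the entries of `l` selected by the bits of `a` -/
def enc : List ℕ → ℕ → ℕ
  | [], _ => 0
  | b :: l, a => (b * (a % 2)) ^^^ enc l (a / 2)

theorem word_mul_mod (b a : ℕ) : word (b * (a % 2)) = 0 ∨ word (b * (a % 2)) = word b := by
  rcases Nat.mod_two_eq_zero_or_one a with h | h
  · left; rw [h, Nat.mul_zero, word_zero]
  · right; rw [h, Nat.mul_one]

theorem enc_xor (l : List ℕ) (a a' : ℕ) : enc l (a ^^^ a') = enc l a ^^^ enc l a' := by
  induction l generalizing a a' with
  | nil => show 0 = 0 ^^^ 0; rfl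
  | cons b l ih =>
    have h2 : (a ^^^ a') / 2 = a / 2 ^^^ a' / 2 := by
      have := Nat.shiftRight_xor_distrib (a := a) (b := a') (i := 1)
      simpa [Nat.shiftRight_eq_div_pow] using this
    have h1 : b * ((a ^^^ a') % 2) = (b * (a % 2)) ^^^ (b * (a' % 2)) := by
      have hx : (a ^^^ a') % 2 = (a % 2) ^^^ (a' % 2) := by
        have := Nat.xor_mod_two_pow (a := a) (b := a') (n := 1)
        simpa using this
      rw [hx]
      rcases Nat.mod_two_eq_zero_or_one a with h | h <;>
        rcases Nat.mod_two_eq_zero_or_one a' with h' | h' <;> simp [h, h']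
    show (b * ((a ^^^ a') % 2)) ^^^ enc l ((a ^^^ a') / 2) =
      ((b * (a % 2)) ^^^ enc l (a / 2)) ^^^ ((b * (a' % 2)) ^^^ enc l (a' / 2))
    rw [h1, h2, ih]
    simp only [Nat.xor_assoc]
    congr 1
    rw [← Nat.xor_assoc, ← Nat.xor_assoc, Nat.xor_comm (b * (a' % 2)) (enc l (a / 2))]

theorem word_enc_mem (l : List ℕ) (a : ℕ) (M : Submodule (ZMod 2) (GolayPt → ZMod 2))
    (h : ∀ b ∈ l, word b ∈ M) : word (enc l a) ∈ M := by
  induction l generalizing a with
  | nil => show word 0 ∈ M; rw [word_zero]; exact M.zero_mem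
  | cons b l ih =>
    show word ((b * (a % 2)) ^^^ enc l (a / 2)) ∈ M
    rw [word_xor]
    apply M.add_mem
    · rcases word_mul_mod b a with h' | h' <;> rw [h']
      · exact M.zero_mem
      · exact h b (by simp)
    · exact ih _ (fun c hc => h c (by simp [hc]))

theorem enc_enc (l l' : List ℕ) (a : ℕ) : enc l' (enc l a) = enc (l.map (enc l')) a := by
  induction l generalizing a with
  | nil =>
    show enc l' 0 = 0
    clear a
    induction l' with
    | nil => rfl
    | cons b l' ih' =>
      show (b * (0 % 2)) ^^^ enc l' (0 / 2) = 0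
      rw [show (0 / 2) = 0 from rfl, ih']; simp
  | cons b l ih =>
    show enc l' ((b * (a % 2)) ^^^ enc l (a / 2)) =
      (enc l' b * (a % 2)) ^^^ enc (l.map (enc l')) (a / 2)
    rw [enc_xor, ih]
    congr 1
    rcases Nat.mod_two_eq_zero_or_one a with h | h
    · rw [h, Nat.mul_zero, Nat.mul_zero]
      clear ih h
      induction l' with
      | nil => rfl
      | cons b l' ih' =>
        show (b * (0 % 2)) ^^^ enc l' (0 / 2) = 0
        rw [show (0 / 2) = 0 from rfl, ih']; simp
    · rw [h, Nat.mul_one, Nat.mul_one]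

/-- systematic basis of the code (information set: bits 0, ..., 11) -/
def basis : List ℕ := [13062145, 4845570, 13938692, 7221256, 10170384, 11952160, 15515712,
  2019456, 4038912, 8077824, 11654144, 14919680]

theorem basis_map_enc : basis.map (enc basis) = basis := by decide

theorem enc_basis_enc_basis (a : ℕ) : enc basis (enc basis a) = enc basis a := by
  rw [enc_enc, basis_map_enc]

/-- masks of the words `qrWord t` -/
def qmask (t : ℕ) : ℕ := (List.range 23).foldl (fun m r => m ||| 2 ^ ((r * r + t) % 23)) 0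

theorem qrWord_eq (t : ZMod 23) : qrWord t = word (qmask t.val) := by
  revert t; decide +kernel

/-- masks of the 23 words `qrWord t` and of the all-ones word -/
def qlist : List ℕ := [340831, 681662, 1363324, 2726648, 5453296, 2517985, 5035970, 1683333,
  3366666, 6733332, 5078057, 1767507, 3535014, 7070028, 5751449, 3114291, 6228582, 4068557,
  8137114, 7885621, 7382635, 6376663, 4364719, 16777215]

theorem one_eq : (1 : GolayPt → ZMod 2) = word 16777215 := by
  decide +kernel

theorem mem_qlist (q : ℕ) (hq : q ∈ qlist) : q = 16777215 ∨ ∃ t : ZMod 23, q = qmask t.val := by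
  revert q; decide +kernel

theorem qmask_mem (t : ZMod 23) : qmask t.val ∈ qlist := by
  revert t; decide +kernel

theorem word_qlist_mem (q : ℕ) (hq : q ∈ qlist) : word q ∈ golayCode := by
  rcases mem_qlist q hq with h | ⟨t, h⟩
  · rw [h, ← one_eq]
    exact Submodule.subset_span (Or.inr rfl)
  · rw [h]
    rw [← qrWord_eq t]
    exact Submodule.subset_span (Or.inl ⟨_, rfl⟩)

/-- coefficients expressing `basis` through `qlist` -/
def basisCert : List ℕ := [8390313, 280, 8389785, 1400, 8390330, 8390551, 8390093, 2000, 1347,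
  101, 8390243, 8390181]

theorem basis_eq_map : basis = basisCert.map (enc qlist) := by decide +kernel

theorem word_basis_mem (b : ℕ) (hb : b ∈ basis) : word b ∈ golayCode := by
  rw [basis_eq_map] at hb
  obtain ⟨c, -, rfl⟩ := List.mem_map.mp hb
  exact word_enc_mem _ _ _ word_qlist_mem

theorem word_enc_basis_mem (a : ℕ) : word (enc basis a) ∈ golayCode :=
  word_enc_mem _ _ _ word_basis_mem

theorem qlist_map_enc : qlist.map (enc basis) = qlist := by decide +kernel

/-- the code as a submodule, in systematic form -/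
def sysCode : Submodule (ZMod 2) (GolayPt → ZMod 2) where
  carrier := {w | ∃ a, w = word (enc basis a)}
  zero_mem' := ⟨0, by rw [← word_zero]; rfl⟩
  add_mem' := by
    rintro w w' ⟨a, rfl⟩ ⟨a', rfl⟩
    exact ⟨a ^^^ a', by rw [enc_xor, word_xor]⟩
  smul_mem' := by
    rintro c w ⟨a, rfl⟩
    have hc : c = 0 ∨ c = 1 := by revert c; decide
    rcases hc with rfl | rfl
    · exact ⟨0, by rw [zero_smul, ← word_zero]; rfl⟩
    · exact ⟨a, by rw [one_smul]⟩

theorem golayCode_eq : golayCode = sysCode := by
  apply le_antisymm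
  · refine Submodule.span_le.mpr ?_
    have key : ∀ q ∈ qlist, word q ∈ sysCode := by
      intro q hq
      refine ⟨q, ?_⟩
      have : ∀ q ∈ qlist, enc basis q = q := by decide +kernel
      rw [this q hq]
    rintro w (⟨t, rfl⟩ | rfl)
    · rw [qrWord_eq]
      exact key _ (qmask_mem t)
    · rw [one_eq]
      exact key _ (by decide)
  · rintro w ⟨a, rfl⟩
    exact word_enc_basis_mem a

theorem enc_mod (l : List ℕ) (a : ℕ) : enc l (a % 2 ^ l.length) = enc l a := by
  induction l generalizing a with
  | nil => rfl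
  | cons b l ih =>
    show (b * ((a % 2 ^ (l.length + 1)) % 2)) ^^^ enc l ((a % 2 ^ (l.length + 1)) / 2) =
      (b * (a % 2)) ^^^ enc l (a / 2)
    have h1 : (a % 2 ^ (l.length + 1)) % 2 = a % 2 := by
      apply Nat.mod_mod_of_dvd
      exact ⟨2 ^ l.length, by ring⟩
    have h2 : (a % 2 ^ (l.length + 1)) / 2 = (a / 2) % 2 ^ l.length := by
      rw [pow_succ', Nat.mod_mul_right_div_self]
    rw [h1, h2, ih]

theorem enc_lt (l : List ℕ) (k : ℕ) (h : ∀ b ∈ l, b < 2 ^ k) (a : ℕ) : enc l a < 2 ^ k := by
  induction l generalizing a with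
  | nil => exact Nat.two_pow_pos k
  | cons b l ih =>
    show (b * (a % 2)) ^^^ enc l (a / 2) < 2 ^ k
    apply Nat.xor_lt_two_pow
    · have hb := h b (by simp)
      rcases Nat.mod_two_eq_zero_or_one a with h' | h' <;> rw [h']
      · rw [Nat.mul_zero]; exact Nat.two_pow_pos k
      · rw [Nat.mul_one]; exact hb
    · exact ih (fun c hc => h c (by simp [hc])) _

theorem enc_basis_lt (a : ℕ) : enc basis a < 2 ^ 24 :=
  enc_lt _ _ (by decide) a

theorem mem_golayCode (w : GolayPt → ZMod 2) :
    w ∈ golayCode ↔ ∃ a, a < 4096 ∧ w = word (enc basis a) := by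
  rw [golayCode_eq]
  constructor
  · rintro ⟨a, rfl⟩
    refine ⟨a % 4096, Nat.mod_lt _ (by decide), ?_⟩
    have := enc_mod basis a
    rw [show (2 : ℕ) ^ basis.length = 4096 by decide] at this
    rw [this]
  · rintro ⟨a, -, rfl⟩
    exact ⟨a, rfl⟩

/-- test for codewords (masks `< 2 ^ 24`) -/
def isCode (m : ℕ) : Bool := Nat.beq (enc basis m) m

theorem mem_supports_of_isCode (m : ℕ) (h : isCode m = true) :
    fin m ∈ supports (golayCode : Set (GolayPt → ZMod 2)) := by
  have h' : enc basis m = m := Nat.eq_of_beq_eq_true h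
  refine ⟨word m, ?_, support_word m⟩
  rw [← h']
  exact word_enc_basis_mem m

theorem mem_supports (s : Finset GolayPt) :
    s ∈ supports (golayCode : Set (GolayPt → ZMod 2)) ↔ ∃ a, a < 4096 ∧ s = fin (enc basis a) := by
  constructor
  · rintro ⟨w, hw, rfl⟩
    obtain ⟨a, ha, rfl⟩ := (mem_golayCode w).mp hw
    exact ⟨a, ha, support_word _⟩
  · rintro ⟨a, ha, rfl⟩
    exact ⟨word (enc basis a), word_enc_basis_mem a, support_word _⟩

/-! ### cardinality -/

/-- number of ones among the lowest `n` bits -/
def pop : ℕ → ℕ → ℕ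
  | 0, _ => 0
  | n + 1, m => m % 2 + pop n (m / 2)

theorem pop_eq (n m : ℕ) : pop n m = ((Finset.range n).filter (fun i => m.testBit i = true)).card := by
  induction n generalizing m with
  | zero => rfl
  | succ n ih =>
    show m % 2 + pop n (m / 2) = _
    rw [ih, Finset.card_filter, Finset.card_filter, Finset.sum_range_succ']
    rw [add_comm]
    congr 1
    · apply Finset.sum_congr rfl
      intro i _
      rw [Nat.testBit_succ]
    · rw [Nat.testBit_zero]
      rcases Nat.mod_two_eq_zero_or_one m with h | h <;> simp [h]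

theorem card_fin (m : ℕ) : (fin m).card = pop 24 m := by
  rw [pop_eq]
  apply Finset.card_bij (fun p _ => idx p)
  · intro p hp
    rw [Finset.mem_filter, Finset.mem_range]
    exact ⟨idx_lt p, (mem_fin m p).mp hp⟩
  · intro p _ q _ h
    exact idx_injective h
  · intro i hi
    rw [Finset.mem_filter, Finset.mem_range] at hi
    exact ⟨pt i, (mem_fin m _).mpr (by rw [idx_pt i hi.1]; exact hi.2), idx_pt i hi.1⟩

/-! ### the action of permutations on masks -/

/-- image of the mask `m` under the map whose table of powers of two is `l` -/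
def act : List ℕ → ℕ → ℕ
  | [], _ => 0
  | p :: l, m => (p * (m % 2)) ||| act l (m / 2)

theorem testBit_act (l : List ℕ) (m j : ℕ) :
    (act l m).testBit j = true ↔
      ∃ k, k < l.length ∧ m.testBit k = true ∧ (l.getD k 0).testBit j = true := by
  induction l generalizing m with
  | nil => simp [act]
  | cons p l ih =>
    show ((p * (m % 2)) ||| act l (m / 2)).testBit j = true ↔ _
    rw [Nat.testBit_or, Bool.or_eq_true, ih]
    constructor
    · rintro (h | ⟨k, hk, h1, h2⟩)
      · rcases Nat.mod_two_eq_zero_or_one m with h' | h'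
        · rw [h', Nat.mul_zero, Nat.zero_testBit] at h; exact absurd h (by decide)
        · rw [h', Nat.mul_one] at h
          exact ⟨0, by simp, by rw [Nat.testBit_zero, h']; rfl, by simpa using h⟩
      · exact ⟨k + 1, by simpa using hk, by rw [Nat.testBit_succ]; exact h1, by simpa using h2⟩
    · rintro ⟨k, hk, h1, h2⟩
      cases k with
      | zero =>
        left
        rw [Nat.testBit_zero] at h1
        have h' : m % 2 = 1 := by simpa using h1
        rw [h', Nat.mul_one]; simpa using h2
      | succ k =>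
        right
        exact ⟨k, by simpa using hk, by rw [Nat.testBit_succ] at h1; exact h1, by simpa using h2⟩

/-- the permutation `g` has table (of powers of two) `l` -/
structure Rep (g : Equiv.Perm GolayPt) (l : List ℕ) : Prop where
  len : l.length = 24
  eq : ∀ q, l.getD (idx q) 0 = 2 ^ (idx (g q))

theorem Rep.smul_fin {g : Equiv.Perm GolayPt} {l : List ℕ} (h : Rep g l) (m : ℕ) :
    g • fin m = fin (act l m) := by
  ext p
  rw [mem_fin, testBit_act, Finset.mem_smul_finset]
  constructor
  · rintro ⟨q, hq, rfl⟩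
    refine ⟨idx q, by rw [h.len]; exact idx_lt q, (mem_fin m q).mp hq, ?_⟩
    rw [h.eq, Nat.testBit_two_pow]
    exact decide_eq_true rfl
  · rintro ⟨k, hk, h1, h2⟩
    rw [h.len] at hk
    refine ⟨pt k, (mem_fin m _).mpr (by rw [idx_pt k hk]; exact h1), ?_⟩
    have h3 := h.eq (pt k)
    rw [idx_pt k hk] at h3
    rw [h3, Nat.testBit_two_pow] at h2
    exact idx_injective (of_decide_eq_true h2)

/-- check that `l` is the table of a permutation -/
def okTab (l : List ℕ) : Bool :=
  l.length == 24 &&
  (List.range 24).all (fun k => 2 ^ (Nat.log2 (l.getD k 0)) == l.getD k 0 && Nat.blt (Nat.log2 (l.getD k 0)) 24) &&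
  decide (l.Nodup)

theorem exists_rep (l : List ℕ) (hl : okTab l = true) : ∃ g : Equiv.Perm GolayPt, Rep g l := by
  simp only [okTab, Bool.and_eq_true, List.all_eq_true, beq_iff_eq, decide_eq_true_eq,
    List.mem_range] at hl
  obtain ⟨⟨hlen, h1⟩, hnd⟩ := hl
  have key : ∀ q : GolayPt, idx (pt (Nat.log2 (l.getD (idx q) 0))) = Nat.log2 (l.getD (idx q) 0) :=
    fun q => idx_pt _ (by
      have := (h1 (idx q) (idx_lt q)).2
      exact Nat.le_of_ble_eq_true this)
  have hinj : Function.Injective (fun q : GolayPt => pt (Nat.log2 (l.getD (idx q) 0))) := by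
    intro q q' h
    have h2 : Nat.log2 (l.getD (idx q) 0) = Nat.log2 (l.getD (idx q') 0) := by
      rw [← key q, ← key q']
      exact congrArg idx h
    have h3 : l.getD (idx q) 0 = l.getD (idx q') 0 := by
      rw [← (h1 (idx q) (idx_lt q)).1, ← (h1 (idx q') (idx_lt q')).1, h2]
    have hq : idx q < l.length := by rw [hlen]; exact idx_lt q
    have hq' : idx q' < l.length := by rw [hlen]; exact idx_lt q'
    rw [List.getD_eq_getElem _ _ hq, List.getD_eq_getElem _ _ hq'] at h3
    exact idx_injective ((List.Nodup.getElem_inj_iff hnd).mp h3)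
  refine ⟨Equiv.ofBijective _ (Finite.injective_iff_bijective.mp hinj), hlen, ?_⟩
  intro q
  rw [Equiv.ofBijective_apply, key q]
  exact (h1 (idx q) (idx_lt q)).1.symm

/-! ### membership in `M24` -/

/-- check that the permutation with table `l` preserves the code -/
def m24Tab (l : List ℕ) : Bool := basis.all (fun b => isCode (act l b))

theorem smul_support (g : Equiv.Perm GolayPt) (w : GolayPt → ZMod 2) :
    g • support₂ w = support₂ (fun p => w (g.symm p)) := by
  ext p
  rw [Finset.mem_smul_finset, mem_support]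
  constructor
  · rintro ⟨q, hq, rfl⟩
    rw [mem_support] at hq
    rw [Equiv.Perm.smul_def, Equiv.symm_apply_apply]
    exact hq
  · intro h
    exact ⟨g.symm p, (mem_support _ _).mpr h, by rw [Equiv.Perm.smul_def, Equiv.apply_symm_apply]⟩

theorem support_injective (w w' : GolayPt → ZMod 2) (h : support₂ w = support₂ w') : w = w' := by
  funext p
  have h1 := Finset.ext_iff.mp h p
  rw [mem_support, mem_support] at h1
  have h2 : ∀ a b : ZMod 2, (a ≠ 0 ↔ b ≠ 0) → a = b := by decide
  exact h2 _ _ h1

theorem Rep.mem_M24 {g : Equiv.Perm GolayPt} {l : List ℕ} (h : Rep g l) (hl : m24Tab l = true) :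
    g ∈ M24 := by
  have h1 : ∀ b ∈ basis, isCode (act l b) = true := by
    simpa only [m24Tab, List.all_eq_true] using hl
  -- the coordinate map
  let P : (GolayPt → ZMod 2) →ₗ[ZMod 2] (GolayPt → ZMod 2) :=
    LinearMap.funLeft (ZMod 2) (ZMod 2) g.symm
  have hP : ∀ w, support₂ (P w) = g • support₂ w := fun w => (smul_support g w).symm
  have h2 : ∀ b ∈ basis, word b ∈ golayCode.comap P := by
    intro b hb
    obtain ⟨w, hw, hw'⟩ := mem_supports_of_isCode _ (h1 b hb)
    rw [← h.smul_fin, ← support_word b, ← hP] at hw'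
    rw [Submodule.mem_comap, ← support_injective _ _ hw']
    exact hw
  have h3 : ∀ s ∈ supports (golayCode : Set (GolayPt → ZMod 2)),
      g • s ∈ supports (golayCode : Set (GolayPt → ZMod 2)) := by
    intro s hs
    obtain ⟨a, -, rfl⟩ := (mem_supports s).mp hs
    have h4 := word_enc_mem basis a _ h2
    refine ⟨P (word (enc basis a)), h4, ?_⟩
    rw [hP, support_word]
  rw [M24, setSystemAut, MulAction.mem_stabilizer_iff]
  apply Set.eq_of_subset_of_ncard_le
  · rintro _ ⟨s, hs, rfl⟩
    exact h3 s hs
  · rw [Set.ncard_smul_set]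
  · exact Set.toFinite _

end Cfsg.Agent.Golay.Orbit
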