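import Cfsg.Agent.Golay.Core

/-!
# The punctured code of length 23 and coset leaders

Covering radius (4 for the length-24 code, 3 for the punctured code), weight enumerator of the
punctured code, number of coset leaders.
-/

set_option autoImplicit false

namespace Cfsg.Agent.Golay.Punctured

open Cfsg Cfsg.Agent.Golay.Core

/-! ### The punctured code -/

/-- The restriction of a word to the 23 residues. -/
def res (w : GolayPt → ZMod 2) : ZMod 23 → ZMod 2 := fun x => w (some x)

/-- The punctured code. -/
def C23 : Set (ZMod 23 → ZMod 2) := {u | ∃ w ∈ golayCode, ∀ x : ZMod 23, u x = w (some x)}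

theorem mem_C23_iff (u : ZMod 23 → ZMod 2) : u ∈ C23 ↔ ∃ w ∈ golayCode, u = res w := by
  constructor
  · rintro ⟨w, hw, h⟩
    exact ⟨w, hw, funext h⟩
  · rintro ⟨w, hw, rfl⟩
    exact ⟨w, hw, fun _ => rfl⟩

theorem res_add (v w : GolayPt → ZMod 2) : res (v + w) = res v + res w := rfl

theorem res_sub (v w : GolayPt → ZMod 2) : res (v - w) = res v - res w := rfl

/-- Norm of the restriction, as a bit count. -/
theorem hammingNorm_res (w : GolayPt → ZMod 2) : hammingNorm (res w) = popc 23 (mask w) := by
  rw [popc_eq_card]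
  unfold hammingNorm
  apply Finset.card_bij (fun (x : ZMod 23) _ => pos (some x))
  · intro p hp
    simp only [Finset.mem_filter, Finset.mem_univ, true_and] at hp
    simp only [Finset.mem_filter, Finset.mem_range]
    refine ⟨ZMod.val_lt p, ?_⟩
    rw [testBit_mask]
    simpa [res] using hp
  · intro p _ q _ h
    exact Option.some_injective _ (pos_injective h)
  · intro i hi
    simp only [Finset.mem_filter, Finset.mem_range] at hi
    obtain ⟨hi1, hi2⟩ := hi
    have hp : pos (some (i : ZMod 23)) = i := ZMod.val_natCast_of_lt hi1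
    refine ⟨(i : ZMod 23), ?_, hp⟩
    simp only [Finset.mem_filter, Finset.mem_univ, true_and]
    have h1 := testBit_mask w (some (i : ZMod 23))
    rw [hp, hi2] at h1
    simpa [res] using h1.symm

theorem popc_le_popc_succ (k n : ℕ) : popc k n ≤ popc (k + 1) n := by
  rw [popc_eq_sum, popc_eq_sum, Finset.sum_range_succ]
  exact Nat.le_add_right _ _

theorem popc_succ_le (k n : ℕ) : popc (k + 1) n ≤ popc k n + 1 := by
  rw [popc_eq_sum, popc_eq_sum, Finset.sum_range_succ]
  have : (n.testBit k).toNat ≤ 1 := Bool.toNat_le _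
  omega

theorem hammingNorm_le_res (w : GolayPt → ZMod 2) : hammingNorm w ≤ hammingNorm (res w) + 1 := by
  rw [hammingNorm_eq_popc, hammingNorm_res]
  exact popc_succ_le 23 _

theorem res_le_hammingNorm (w : GolayPt → ZMod 2) : hammingNorm (res w) ≤ hammingNorm w := by
  rw [hammingNorm_eq_popc, hammingNorm_res]
  exact popc_le_popc_succ 23 _

theorem eq_zero_of_res_eq_zero {w : GolayPt → ZMod 2} (hw : w ∈ golayCode) (h : res w = 0) :
    w = 0 := by
  by_contra h0
  have h1 := eight_le_of_mem_of_ne_zero hw h0
  have h2 := hammingNorm_le_res w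
  rw [h, hammingNorm_zero] at h2
  omega

theorem res_injOn : Set.InjOn res (golayCode : Set (GolayPt → ZMod 2)) := by
  intro a ha b hb h
  have h1 : res (a - b) = 0 := by rw [res_sub, h, sub_self]
  have := eq_zero_of_res_eq_zero (Submodule.sub_mem _ ha hb) h1
  exact sub_eq_zero.mp this

theorem seven_le_of_mem_C23 {u : ZMod 23 → ZMod 2} (hu : u ∈ C23) (h0 : u ≠ 0) :
    7 ≤ hammingNorm u := by
  obtain ⟨w, hw, rfl⟩ := (mem_C23_iff u).mp hu
  have hw0 : w ≠ 0 := by rintro rfl; exact h0 rfl
  have h1 := eight_le_of_mem_of_ne_zero hw hw0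
  have h2 := hammingNorm_le_res w
  omega

/-- Counting words of the punctured code by a property of the restriction. -/
theorem ncard_C23_filter (P : (ZMod 23 → ZMod 2) → Prop) :
    {u : ZMod 23 → ZMod 2 | u ∈ C23 ∧ P u}.ncard =
      {w : GolayPt → ZMod 2 | w ∈ golayCode ∧ P (res w)}.ncard := by
  have h1 : {u : ZMod 23 → ZMod 2 | u ∈ C23 ∧ P u} =
      res '' {w : GolayPt → ZMod 2 | w ∈ golayCode ∧ P (res w)} := by
    ext u
    simp only [Set.mem_ofPred_eq, Set.mem_image]
    constructor
    · rintro ⟨hu, hp⟩
      obtain ⟨w, hw, rfl⟩ := (mem_C23_iff u).mp hu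
      exact ⟨w, ⟨hw, hp⟩, rfl⟩
    · rintro ⟨w, ⟨hw, hp⟩, rfl⟩
      exact ⟨(mem_C23_iff _).mpr ⟨w, hw, rfl⟩, hp⟩
  rw [h1]
  apply Set.InjOn.ncard_image
  intro a ha b hb hab
  exact res_injOn ha.1 hb.1 hab

theorem ncard_C23_weight (d : ℕ) :
    {u : ZMod 23 → ZMod 2 | u ∈ C23 ∧ hammingNorm u = d}.ncard =
      cntD (fun k => Nat.beq (popc 23 (enc k)) d) 12 0 := by
  rw [ncard_C23_filter]
  apply ncard_golayCode_filter (fun w => hammingNorm (res w) = d)
    (fun n => Nat.beq (popc 23 n) d)
  intro w _
  rw [hammingNorm_res, Nat.beq_eq]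

theorem ncard_C23 : C23.ncard = 4096 := by
  have h1 := ncard_C23_filter (fun _ => True)
  have h2 := ncard_golayCode_filter (fun _ => True) (fun _ => true) (fun _ _ => by simp)
  simp only [and_true] at h1 h2
  have h3 : cntD (fun _ => true) 12 0 = 4096 := by decide +kernel
  rw [h3] at h2
  rw [← h2]
  exact h1

theorem cnt7 : cntD (fun k => Nat.beq (popc 23 (enc k)) 7) 12 0 = 253 := by decide +kernel
theorem cnt8 : cntD (fun k => Nat.beq (popc 23 (enc k)) 8) 12 0 = 506 := by decide +kernel
theorem cnt11 : cntD (fun k => Nat.beq (popc 23 (enc k)) 11) 12 0 = 1288 := by decide +kernel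
theorem cnt12 : cntD (fun k => Nat.beq (popc 23 (enc k)) 12) 12 0 = 1288 := by decide +kernel
theorem cnt15 : cntD (fun k => Nat.beq (popc 23 (enc k)) 15) 12 0 = 506 := by decide +kernel
theorem cnt16 : cntD (fun k => Nat.beq (popc 23 (enc k)) 16) 12 0 = 253 := by decide +kernel

/-! ### Covering radius -/

/-- Every word is at distance at most 4 from the code, with at most three errors among the 23
residues. -/
theorem exists_leader (w : GolayPt → ZMod 2) :
    ∃ v : GolayPt → ZMod 2, w - v ∈ golayCode ∧ hammingNorm (res v) ≤ 3 := by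
  set s := syn (mask w) % 2048 with hs
  have hs' : s < 2048 := Nat.mod_lt _ (by norm_num)
  obtain ⟨h1, h2, h3⟩ := leader_spec hs'
  have h3' : leader s < 2 ^ 24 := lt_trans h3 (by norm_num)
  set t := syn (mask w) ^^^ syn (leader s) with ht
  have ht0 : t % 2048 = 0 := by
    have := @Nat.xor_mod_two_pow (syn (mask w)) (syn (leader s)) 11
    norm_num at this
    rw [ht, this, h1, ← hs, Nat.xor_self]
  have htlt : t < 2 ^ 12 := Nat.xor_lt_two_pow (syn_lt _) (syn_lt _)
  have hcases : t = 0 ∨ t = 2048 := by
    have : t / 2048 < 2 := by omega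
    omega
  rcases hcases with h | h
  · refine ⟨word (leader s), ?_, ?_⟩
    · rw [mem_golayCode_iff_syn, mask_sub, mask_word h3', syn_xor]
      exact h
    · rw [hammingNorm_res, mask_word h3']
      exact h2
  · have h5 : leader s ^^^ 8388608 < 2 ^ 24 := Nat.xor_lt_two_pow h3' (by norm_num)
    refine ⟨word (leader s ^^^ 8388608), ?_, ?_⟩
    · rw [mem_golayCode_iff_syn, mask_sub, mask_word h5, syn_xor, syn_xor, ← Nat.xor_assoc]
      have h6 : syn 8388608 = 2048 := by decide +kernel
      rw [h6, ← ht, h]
      rfl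
    · rw [hammingNorm_res, mask_word h5]
      refine le_trans (le_of_eq ?_) h2
      rw [popc_eq_sum, popc_eq_sum]
      apply Finset.sum_congr rfl
      intro i hi
      rw [Finset.mem_range] at hi
      rw [Nat.testBit_xor]
      have : (8388608 : ℕ).testBit i = false := by
        have h8 : (8388608 : ℕ) = 2 ^ 23 := by norm_num
        rw [h8, Nat.testBit_two_pow_of_ne (by omega)]
      rw [this, Bool.xor_false]

theorem dist_eq {ι : Type*} [Fintype ι] (a b : ι → ZMod 2) :
    hammingDist a b = hammingNorm (a - b) := by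
  rw [hammingDist_comm, hammingDist_eq_hammingNorm, neg_add_eq_sub]

theorem hammingNorm_sub_le {ι : Type*} [Fintype ι] (a b : ι → ZMod 2) :
    hammingNorm (a - b) ≤ hammingNorm a + hammingNorm b := by
  have h := hammingDist_triangle a 0 b
  rw [dist_eq, hammingDist_zero_right, hammingDist_zero_left] at h
  exact h

theorem golay23_perfect (u : ZMod 23 → ZMod 2) : ∃! c : ZMod 23 → ZMod 2,
    c ∈ C23 ∧ hammingDist u c ≤ 3 := by
  let w : GolayPt → ZMod 2 := fun p => match p with
    | none => 0
    | some x => u x
  obtain ⟨v, hv, hv3⟩ := exists_leader w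
  have hresw : res w = u := rfl
  refine ⟨res (w - v), ⟨(mem_C23_iff _).mpr ⟨w - v, hv, rfl⟩, ?_⟩, ?_⟩
  · rw [dist_eq, res_sub, hresw, sub_sub_cancel]
    exact hv3
  · rintro c ⟨hc, hd⟩
    obtain ⟨w', hw', rfl⟩ := (mem_C23_iff c).mp hc
    have hmem : w' - (w - v) ∈ golayCode := Submodule.sub_mem _ hw' hv
    by_contra hne
    have h0 : w' - (w - v) ≠ 0 := by
      intro h
      apply hne
      rw [sub_eq_zero.mp h]
    have h8 := eight_le_of_mem_of_ne_zero hmem h0
    have h9 := hammingNorm_le_res (w' - (w - v))
    have h10 : hammingNorm (res (w' - (w - v))) ≤ 3 + 3 := by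
      have e : res (w' - (w - v)) = res v - (u - res w') := by
        rw [res_sub, res_sub, hresw]; abel
      rw [e]
      refine le_trans (hammingNorm_sub_le _ _) ?_
      rw [dist_eq] at hd
      omega
    omega

/-! ### Coset leaders of the length-24 code -/

theorem exists_leader_four (w : GolayPt → ZMod 2) :
    ∃ v : GolayPt → ZMod 2, hammingNorm v ≤ 4 ∧ w - v ∈ golayCode := by
  obtain ⟨v, h1, h2⟩ := exists_leader w
  have := hammingNorm_le_res v
  exact ⟨v, by omega, h1⟩

/-- Two words of the same coset are equal or their weights add up to at least 8. -/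
theorem eq_or_eight_le {w v v' : GolayPt → ZMod 2} (h : w - v ∈ golayCode)
    (h' : w - v' ∈ golayCode) : v = v' ∨ 8 ≤ hammingNorm (v - v') := by
  by_cases hv : v = v'
  · exact Or.inl hv
  · right
    have e : v - v' = (w - v') - (w - v) := by abel
    apply eight_le_of_mem_of_ne_zero
    · rw [e]; exact Submodule.sub_mem _ h' h
    · exact sub_ne_zero.mpr hv

theorem even_hammingNorm {w : GolayPt → ZMod 2} (hw : w ∈ golayCode) :
    Even (hammingNorm w) := by
  rcases weight_cases hw with h | h | h | h | h <;> rw [h] <;> decide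

/-- `∑ p, w p` is the parity of the weight. -/
theorem sum_eq_hammingNorm (w : GolayPt → ZMod 2) : ∑ p, w p = (hammingNorm w : ZMod 2) := by
  unfold hammingNorm
  rw [Finset.card_filter, Nat.cast_sum]
  apply Finset.sum_congr rfl
  intro p _
  rcases zmod2_cases (w p) with h | h <;> simp [h]

theorem even_hammingNorm_iff (w : GolayPt → ZMod 2) : Even (hammingNorm w) ↔ ∑ p, w p = 0 := by
  rw [sum_eq_hammingNorm, ZMod.natCast_eq_zero_iff_even]

/-- Weights in a coset have the same parity. -/
theorem even_iff_even {w v : GolayPt → ZMod 2} (h : w - v ∈ golayCode) :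
    Even (hammingNorm w) ↔ Even (hammingNorm v) := by
  have h1 := (even_hammingNorm_iff _).mp (even_hammingNorm h)
  rw [even_hammingNorm_iff, even_hammingNorm_iff]
  have h2 : ∑ p, (w - v) p = ∑ p, w p - ∑ p, v p := by
    simp only [Pi.sub_apply, Finset.sum_sub_distrib]
  rw [h2, sub_eq_zero] at h1
  rw [h1]

theorem hammingNorm_single (p : GolayPt) :
    hammingNorm (Pi.single p 1 : GolayPt → ZMod 2) = 1 := by
  unfold hammingNorm
  rw [Finset.card_eq_one]
  refine ⟨p, ?_⟩
  ext q
  simp only [Finset.mem_filter, Finset.mem_univ, true_and, Finset.mem_singleton]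
  constructor
  · intro h
    by_contra hne
    exact h (by rw [Pi.single_eq_of_ne hne])
  · rintro rfl
    rw [Pi.single_eq_same]
    exact one_ne_zero (α := ZMod 2)

theorem hammingNorm_add_single (v : GolayPt → ZMod 2) (p : GolayPt) :
    hammingNorm (v + Pi.single p 1) ≤ hammingNorm v + 1 := by
  rw [← sub_eq]
  refine le_trans (hammingNorm_sub_le _ _) ?_
  rw [hammingNorm_single]

/-- If `v p ≠ 0` then flipping `p` lowers the weight. -/
theorem hammingNorm_add_single_of_ne {v : GolayPt → ZMod 2} {p : GolayPt} (h : v p ≠ 0) :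
    hammingNorm (v + Pi.single p 1) < hammingNorm v := by
  unfold hammingNorm
  apply Finset.card_lt_card
  refine ⟨?_, ?_⟩
  · intro q hq
    simp only [Finset.mem_filter, Finset.mem_univ, true_and] at hq ⊢
    by_cases hqp : q = p
    · rw [hqp]; exact h
    · rw [Pi.add_apply, Pi.single_eq_of_ne hqp, add_zero] at hq
      exact hq
  · intro hsub
    have hp : p ∈ Finset.univ.filter (fun i => v i ≠ 0) := by simpa using h
    have h2 := hsub hp
    simp only [Finset.mem_filter, Finset.mem_univ, true_and, Pi.add_apply,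
      Pi.single_eq_same] at h2
    rcases zmod2_cases (v p) with h3 | h3
    · exact h h3
    · rw [h3] at h2; exact h2 (show (1 : ZMod 2) + 1 = 0 by decide)

theorem golay_coset_representatives (w : GolayPt → ZMod 2) :
    ({v : GolayPt → ZMod 2 | hammingNorm v ≤ 4 ∧ w - v ∈ golayCode}.ncard = 1 ∧
        ∃ v : GolayPt → ZMod 2, hammingNorm v ≤ 3 ∧ w - v ∈ golayCode) ∨
      ({v : GolayPt → ZMod 2 | hammingNorm v ≤ 4 ∧ w - v ∈ golayCode}.ncard = 6 ∧
        ∀ v : GolayPt → ZMod 2, w - v ∈ golayCode → hammingNorm v ≤ 4 → hammingNorm v = 4) := by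
  by_cases h3 : ∃ v : GolayPt → ZMod 2, hammingNorm v ≤ 3 ∧ w - v ∈ golayCode
  · left
    refine ⟨?_, h3⟩
    obtain ⟨v, hv, hvm⟩ := h3
    rw [Set.ncard_eq_one]
    refine ⟨v, ?_⟩
    ext v'
    simp only [Set.mem_ofPred_eq, Set.mem_singleton_iff]
    constructor
    · rintro ⟨h4, hm⟩
      rcases eq_or_eight_le hm hvm with h | h
      · exact h
      · have := hammingNorm_sub_le v' v
        omega
    · rintro rfl
      exact ⟨by omega, hvm⟩
  · right
    have hall : ∀ v : GolayPt → ZMod 2, w - v ∈ golayCode → hammingNorm v ≤ 4 →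
        hammingNorm v = 4 := by
      intro v hv h4
      by_contra hne
      exact h3 ⟨v, by omega, hv⟩
    refine ⟨?_, hall⟩
    classical
    set A : Set (GolayPt → ZMod 2) := {v | hammingNorm v ≤ 4 ∧ w - v ∈ golayCode} with hA
    have hfin : A.Finite := Set.toFinite A
    set F : Finset (GolayPt → ZMod 2) := hfin.toFinset with hF
    have hmemF : ∀ v, v ∈ F ↔ hammingNorm v ≤ 4 ∧ w - v ∈ golayCode := by
      intro v
      rw [hF, Set.Finite.mem_toFinset, hA, Set.mem_ofPred_eq]
    have hcard : A.ncard = F.card := Set.ncard_eq_toFinset_card A hfin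
    rw [hcard]
    -- parity of the coset
    have heven : Even (hammingNorm w) := by
      obtain ⟨v, hv4, hv⟩ := exists_leader_four w
      rw [even_iff_even hv, hall v hv hv4]
      decide
    -- every point is in exactly one support
    have hone : ∀ p : GolayPt, (F.filter (fun v => v p ≠ 0)).card = 1 := by
      intro p
      obtain ⟨v1, hv1, hv1m⟩ := exists_leader_four (w + Pi.single p 1)
      have hodd : ¬ Even (hammingNorm v1) := by
        rw [← even_iff_even hv1m, even_hammingNorm_iff]
        have : ∑ q, (w + Pi.single p 1 : GolayPt → ZMod 2) q = ∑ q, w q + 1 := by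
          simp only [Pi.add_apply, Finset.sum_add_distrib]
          rw [Finset.sum_pi_single' ]
          simp
        rw [this, (even_hammingNorm_iff w).mp heven]
        decide
      have hle3 : hammingNorm v1 ≤ 3 := by
        by_contra hcon
        have : hammingNorm v1 = 4 := by omega
        rw [this] at hodd
        exact hodd (by decide)
      have hm : w - (v1 + Pi.single p 1) ∈ golayCode := by
        have e : w - (v1 + Pi.single p 1) = w + Pi.single p 1 - v1 := by
          rw [sub_eq, sub_eq]; abel
        rw [e]; exact hv1m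
      have hle4 := hammingNorm_add_single v1 p
      have h4 := hall _ hm (by omega)
      have hv1p : v1 p = 0 := by
        by_contra hne
        have := hammingNorm_add_single_of_ne hne
        omega
      rw [Finset.card_eq_one]
      refine ⟨v1 + Pi.single p 1, ?_⟩
      ext v
      rw [Finset.mem_filter, hmemF, Finset.mem_singleton]
      constructor
      · rintro ⟨⟨hv4, hvm⟩, hvp⟩
        rcases eq_or_eight_le hvm hm with h | h
        · exact h
        · exfalso
          have e : v - (v1 + Pi.single p 1) = (v + Pi.single p 1) - v1 := by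
            rw [sub_eq, sub_eq]; abel
          rw [e] at h
          have h5 := hammingNorm_sub_le (v + Pi.single p 1) v1
          have h6 := hammingNorm_add_single_of_ne hvp
          omega
      · rintro rfl
        refine ⟨⟨by omega, hm⟩, ?_⟩
        rw [Pi.add_apply, hv1p, Pi.single_eq_same]
        decide
    have hsum : ∑ v ∈ F, hammingNorm v = 24 := by
      have h1 : ∀ v ∈ F, hammingNorm v = ∑ p : GolayPt, if v p ≠ 0 then 1 else 0 := by
        intro v _
        unfold hammingNorm
        rw [Finset.card_filter]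
      rw [Finset.sum_congr rfl h1, Finset.sum_comm]
      have h2 : ∀ p ∈ (Finset.univ : Finset GolayPt),
          (∑ v ∈ F, if v p ≠ 0 then 1 else 0) = 1 := by
        intro p _
        rw [← Finset.card_filter]
        exact hone p
      rw [Finset.sum_congr rfl h2]
      simp
    have hsum4 : ∑ v ∈ F, hammingNorm v = F.card * 4 := by
      rw [Finset.sum_const_nat]
      intro v hv
      have := (hmemF v).mp hv
      exact hall v this.2 this.1
    omega

end Cfsg.Agent.Golay.Punctured
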