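import Cfsg.Agent.Golay.Orbit

/-!
Walks in Schreier graphs of subgroups of the symmetric group of the 24 points, acting on masks.
-/

set_option autoImplicit false
open scoped Pointwise
open Cfsg

namespace Cfsg.Agent.Golay.Walk

open Cfsg.Agent.Golay.Orbit

/-- masks visited by the walk `w` (a list of indices into `gens`) starting at `m` -/
def walk (gens : List (List ℕ)) : List ℕ → ℕ → List ℕ
  | [], m => [m]
  | i :: w, m => m :: walk gens w (act (gens.getD i []) m)

/-- all generator tables are represented by elements of `H` -/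
def Reps (H : Subgroup (Equiv.Perm GolayPt)) (gens : List (List ℕ)) : Prop :=
  ∀ l ∈ gens, ∃ g ∈ H, Rep g l

theorem exists_of_mem_walk {H : Subgroup (Equiv.Perm GolayPt)} {gens : List (List ℕ)}
    (hH : Reps H gens) (w : List ℕ) (hw : w.all (fun i => Nat.blt i gens.length) = true)
    (m y : ℕ) (hy : y ∈ walk gens w m) : ∃ g ∈ H, g • fin m = fin y := by
  induction w generalizing m with
  | nil =>
    have : y = m := by simpa [walk] using hy
    exact ⟨1, H.one_mem, by rw [one_smul, this]⟩
  | cons i w ih =>
    rw [List.all_cons, Bool.and_eq_true] at hw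
    have hi : i < gens.length := Nat.le_of_ble_eq_true hw.1
    rcases List.mem_cons.mp (show y ∈ m :: walk gens w (act (gens.getD i []) m) from hy) with h | h
    · exact ⟨1, H.one_mem, by rw [one_smul, h]⟩
    · obtain ⟨g, hg, h1⟩ := ih hw.2 _ h
      obtain ⟨g', hg', h2⟩ := hH (gens.getD i []) (by
        rw [List.getD_eq_getElem _ _ hi]; exact List.getElem_mem hi)
      refine ⟨g * g', H.mul_mem hg hg', ?_⟩
      rw [mul_smul, h2.smul_fin, h1]

/-- two masks visited by the same walk are conjugate -/
theorem exists_of_mem_walk₂ {H : Subgroup (Equiv.Perm GolayPt)} {gens : List (List ℕ)}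
    (hH : Reps H gens) (w : List ℕ) (hw : w.all (fun i => Nat.blt i gens.length) = true)
    (m y z : ℕ) (hy : y ∈ walk gens w m) (hz : z ∈ walk gens w m) :
    ∃ g ∈ H, g • fin y = fin z := by
  obtain ⟨g, hg, h1⟩ := exists_of_mem_walk hH w hw m y hy
  obtain ⟨g', hg', h2⟩ := exists_of_mem_walk hH w hw m z hz
  refine ⟨g' * g⁻¹, H.mul_mem hg' (H.inv_mem hg), ?_⟩
  rw [mul_smul, ← h1, inv_smul_smul, h2]

/-- check that the permutation with table `l` is in `M24` and fixes all masks of `fixed` -/
def stabTab (fixed : List ℕ) (l : List ℕ) : Bool :=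
  okTab l && m24Tab l && fixed.all (fun m => Nat.beq (act l m) m)

/-- the elements of `M24` fixing the point sets of all the masks in `fixed` -/
def stab (fixed : List ℕ) : Subgroup (Equiv.Perm GolayPt) :=
  M24 ⊓ ⨅ m ∈ fixed, MulAction.stabilizer (Equiv.Perm GolayPt) (fin m)

theorem mem_stab (fixed : List ℕ) (g : Equiv.Perm GolayPt) :
    g ∈ stab fixed ↔ g ∈ M24 ∧ ∀ m ∈ fixed, g • fin m = fin m := by
  simp only [stab, Subgroup.mem_inf, Subgroup.mem_iInf, MulAction.mem_stabilizer_iff]

theorem reps_stab (fixed : List ℕ) (gens : List (List ℕ))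
    (h : gens.all (stabTab fixed) = true) : Reps (stab fixed) gens := by
  intro l hl
  have h1 := List.all_eq_true.mp h l hl
  rw [stabTab, Bool.and_eq_true, Bool.and_eq_true, List.all_eq_true] at h1
  obtain ⟨⟨h2, h3⟩, h4⟩ := h1
  obtain ⟨g, hg⟩ := exists_rep l h2
  refine ⟨g, (mem_stab fixed g).mpr ⟨hg.mem_M24 h3, fun m hm => ?_⟩, hg⟩
  rw [hg.smul_fin, Nat.eq_of_beq_eq_true (h4 m hm)]

/-- boolean membership in a list of naturals -/
def memB : List ℕ → ℕ → Bool
  | [], _ => false
  | b :: l, a => Nat.beq a b || memB l a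

theorem mem_of_memB (l : List ℕ) (a : ℕ) (h : memB l a = true) : a ∈ l := by
  induction l with
  | nil => exact absurd h (by simp [memB])
  | cons b l ih =>
    rcases Bool.or_eq_true_iff.mp (show (Nat.beq a b || memB l a) = true from h) with h | h
    · rw [Nat.eq_of_beq_eq_true h]; simp
    · exact List.mem_cons_of_mem _ (ih h)

/-- boolean equality of lists of naturals -/
def eqB : List ℕ → List ℕ → Bool
  | [], [] => true
  | a :: l, b :: l' => Nat.beq a b && eqB l l'
  | _, _ => false

theorem eq_of_eqB (l l' : List ℕ) (h : eqB l l' = true) : l = l' := by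
  induction l generalizing l' with
  | nil =>
    cases l' with
    | nil => rfl
    | cons b l' => exact absurd h (by simp [eqB])
  | cons a l ih =>
    cases l' with
    | nil => exact absurd h (by simp [eqB])
    | cons b l' =>
      rw [eqB, Bool.and_eq_true] at h
      rw [Nat.eq_of_beq_eq_true h.1, ih _ h.2]

end Cfsg.Agent.Golay.Walk
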